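import Cfsg.Agent.H663.GmnPi
import Cfsg.Prelude.Def_Characters

/-!
# Product characters of finite direct products, sums over Sylow normalizers (helper793)
-/

set_option autoImplicit false
set_option linter.unusedSectionVars false
set_option linter.style.haveILetI false

namespace Cfsg.Agent.H793.PC

open Cfsg Cfsg.Agent.Characters.Core Subgroup

universe u v

variable {ι : Type v} [Fintype ι] {A : ι → Type u} [∀ i, Group (A i)] [∀ i, Finite (A i)]

theorem isCharacter_one' {G : Type*} [Group G] : IsCharacter G (1 : G → ℂ) := isIrr_isCharacter isIrr_one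

theorem isCharacter_finset_prod {G : Type*} [Group G] {κ : Type*} (s : Finset κ) (f : κ → G → ℂ)
    (hf : ∀ i ∈ s, IsCharacter G (f i)) : IsCharacter G (fun x => ∏ i ∈ s, f i x) := by
  classical
  induction s using Finset.induction_on with
  | empty =>
    simp only [Finset.prod_empty]
    exact isCharacter_one' (G := G)
  | @insert a s ha ih =>
    have h1 := isCharacter_mul (hf a (Finset.mem_insert_self _ _))
      (ih fun i hi => hf i (Finset.mem_insert_of_mem hi))
    have h2 : (fun x => ∏ i ∈ insert a s, f i x) = f a * (fun x => ∏ i ∈ s, f i x) := by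
      funext x
      rw [Finset.prod_insert ha]
      rfl
    rw [h2]
    exact h1

theorem isIrr_pi {f : ∀ i, A i → ℂ} (hf : ∀ i, IsIrrCharacter (A i) (f i)) :
    IsIrrCharacter (∀ i, A i) (fun x => ∏ i, f i (x i)) := by
  classical
  letI : ∀ i, Fintype (A i) := fun i => Fintype.ofFinite _
  have h1 : IsCharacter (∀ i, A i) (fun x => ∏ i, f i (x i)) :=
    isCharacter_finset_prod Finset.univ (fun i (x : ∀ i, A i) => f i (x i)) fun i _ =>
      isCharacter_comp (Pi.evalMonoidHom A i) (isIrr_isCharacter (hf i))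
  rw [isIrr_iff_classInner_self h1, Cfsg.Agent.H663.GmnStep.classInner_pi]
  apply Finset.prod_eq_one
  intro i _
  exact classInner_irr_self (hf i)

theorem finsum_pi (N : ∀ i, Subgroup (A i)) (f : ∀ i, A i → ℂ) :
    ∑ᶠ b : ↥(Subgroup.pi Set.univ N), ∏ i, f i ((b : ∀ i, A i) i) = ∏ i, ∑ᶠ b : ↥(N i), f i b := by
  classical
  letI : ∀ i, Fintype (A i) := fun i => Fintype.ofFinite _
  letI : ∀ i, Fintype (N i) := fun i => Fintype.ofFinite _
  let e : (∀ i, ↥(N i)) ≃ ↥(Subgroup.pi Set.univ N) :=
    { toFun := fun b => ⟨fun i => b i, fun i _ => (b i).2⟩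
      invFun := fun b i => ⟨(b : ∀ i, A i) i, b.2 i (Set.mem_univ i)⟩
      left_inv := fun b => rfl
      right_inv := fun b => rfl }
  rw [← finsum_comp_equiv e, finsum_eq_sum_of_fintype]
  have h1 : ∀ i, ∑ᶠ b : ↥(N i), f i b = ∑ b : ↥(N i), f i b := fun i => finsum_eq_sum_of_fintype _
  simp_rw [h1]
  rw [Finset.prod_univ_sum, Fintype.piFinset_univ]
  rfl

theorem card_pi' (N : ∀ i, Subgroup (A i)) :
    Nat.card ↥(Subgroup.pi Set.univ N) = ∏ i, Nat.card (N i) := by
  let e : (∀ i, ↥(N i)) ≃ ↥(Subgroup.pi Set.univ N) :=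
    { toFun := fun b => ⟨fun i => b i, fun i _ => (b i).2⟩
      invFun := fun b i => ⟨(b : ∀ i, A i) i, b.2 i (Set.mem_univ i)⟩
      left_inv := fun b => rfl
      right_inv := fun b => rfl }
  rw [← Nat.card_congr e, Nat.card_pi]

theorem normalizer_pi (N : ∀ i, Subgroup (A i)) :
    Subgroup.normalizer ((Subgroup.pi Set.univ N : Subgroup (∀ i, A i)) : Set (∀ i, A i)) =
      Subgroup.pi Set.univ fun i => Subgroup.normalizer ((N i : Subgroup (A i)) : Set (A i)) := by
  classical
  ext g
  rw [Subgroup.mem_normalizer_iff, Subgroup.mem_pi]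
  constructor
  · intro h i _
    rw [Subgroup.mem_normalizer_iff]
    intro a
    have h1 := h (Pi.mulSingle i a)
    have h2 : g * Pi.mulSingle i a * g⁻¹ = Pi.mulSingle i (g i * a * (g i)⁻¹) := by
      funext j
      by_cases hj : j = i
      · subst hj; simp
      · simp [Pi.mulSingle_eq_of_ne hj]
    have h3 : ∀ b : A i, (Pi.mulSingle i b : ∀ i, A i) ∈ Subgroup.pi Set.univ N ↔ b ∈ N i := by
      intro b
      constructor
      · intro hb
        have := hb i (Set.mem_univ i)
        simpa using this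
      · intro hb j _
        show Pi.mulSingle i b j ∈ N j
        by_cases hj : j = i
        · subst hj; simpa using hb
        · rw [Pi.mulSingle_eq_of_ne hj]; exact one_mem _
    rw [h2, h3, h3] at h1
    exact h1
  · intro h x
    constructor
    · intro hx i _
      exact (Subgroup.mem_normalizer_iff.1 (h i (Set.mem_univ i)) (x i)).1 (hx i (Set.mem_univ i))
    · intro hx i _
      exact (Subgroup.mem_normalizer_iff.1 (h i (Set.mem_univ i)) (x i)).2 (hx i (Set.mem_univ i))

theorem exists_sylow_pi {p : ℕ} [hp : Fact p.Prime] (P : Sylow p (∀ i, A i)) :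
    ∃ R : ∀ i, Sylow p (A i), (P : Subgroup (∀ i, A i)) = Subgroup.pi Set.univ fun i => (R i : Subgroup (A i)) := by
  classical
  have h1 : ∀ i, IsPGroup p ((P : Subgroup (∀ i, A i)).map (Pi.evalMonoidHom A i)) := fun i =>
    P.isPGroup'.map _
  choose R hR using fun i => (h1 i).exists_le_sylow
  refine ⟨R, ?_⟩
  have h2 : IsPGroup p ↥(Subgroup.pi Set.univ fun i => (R i : Subgroup (A i))) := by
    choose k hk using fun i => IsPGroup.iff_card.1 (R i).isPGroup'
    rw [IsPGroup.iff_card, card_pi']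
    refine ⟨∑ i, k i, ?_⟩
    rw [← Finset.prod_pow_eq_pow_sum]
    exact Finset.prod_congr rfl fun i _ => hk i
  have h3 : (P : Subgroup (∀ i, A i)) ≤ Subgroup.pi Set.univ fun i => (R i : Subgroup (A i)) := by
    intro x hx i _
    exact hR i ⟨x, hx, rfl⟩
  exact (P.3 h2 h3).symm

/-- the sum of a product function over a Sylow normalizer -/
theorem sum_sylow_pi {p : ℕ} [hp : Fact p.Prime] {f : ∀ i, A i → ℂ}
    (hf : ∀ i, ∀ P : Sylow p (A i), ∑ᶠ b : ↥(Subgroup.normalizer ((P : Subgroup (A i)) : Set (A i))), f i b =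
      (Nat.card ↥(Subgroup.normalizer ((P : Subgroup (A i)) : Set (A i))) : ℂ)) (P : Sylow p (∀ i, A i)) :
    ∑ᶠ b : ↥(Subgroup.normalizer ((P : Subgroup (∀ i, A i)) : Set (∀ i, A i))), ∏ i, f i ((b : ∀ i, A i) i) =
      (Nat.card ↥(Subgroup.normalizer ((P : Subgroup (∀ i, A i)) : Set (∀ i, A i))) : ℂ) := by
  obtain ⟨R, hR⟩ := exists_sylow_pi P
  rw [hR, normalizer_pi, finsum_pi, card_pi', Nat.cast_prod]
  exact Finset.prod_congr rfl fun i _ => hf i (R i)

end Cfsg.Agent.H793.PC
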