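import Cfsg.Agent.H793.PC.Five
import Cfsg.Agent.H638.FD.Ext

/-!
# Five character degrees: `five_multi_lie` (helper793, S4898)
-/

set_option autoImplicit false

namespace Cfsg.Agent.H793.PC

open Cfsg Cfsg.Agent.Lib.MinNormalNonabelian Cfsg.Agent.H638.FD

universe u

theorem five_multi_lie {G : Type u} [Group G] [Finite G] {p : ℕ} [Fact p.Prime] (M : Subgroup G) [M.Normal]
    (hmin : ∀ K : Subgroup G, K.Normal → K ≤ M → K = ⊥ ∨ K = M) (hna : ¬ ∀ x ∈ M, ∀ y ∈ M, Commute x y)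
    (S : Subgroup G) (hS : S ∈ minSet M) (hne : S ≠ M) (θ : S → ℂ) (hθ : IsSt p θ) (hp : ∀ P : Sylow p S, 3 ≤ Nat.card P) :
    5 ≤ (charDegrees G).ncard := by
  refine five_multi_lie' hmin hna S hS hne θ hθ hp fun η hη hs => ?_
  obtain ⟨P⟩ : Nonempty (Sylow p M) := inferInstance
  exact Ext.mem_charDegrees_of_sylow M P hη (hs P)

end Cfsg.Agent.H793.PC
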